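import Groth.Prelude.Def_ProjUP
import Groth.Agent.Ega2.PnMap
import Groth.Agent.Ega2.VeryAmpleAmple

/-!
# Uniqueness of morphisms to projective space

* `pullSec_eq`: the frozen `ProjUP.pullSec` is `LocGen.pullSec`.
* `sec_coordSec_ratio`: `T_k = (T_k / T_i) T_i` on `D_+(T_i)`.
* `hom_ext_of_ratio`: two morphisms to `P^n_R` over `R` with the same `r⁻¹ D_+(T_i)` and pulling back the
  ratios `T_k / T_i` to the same functions coincide.
-/

set_option autoImplicit false
universe u
open CategoryTheory CategoryTheory.Limits AlgebraicGeometry TopologicalSpace Opposite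
open Groth.Agent.Fdesc.LocGen
open Groth.Agent.VarietyB Groth.Agent.VarietyB.ProjHom Groth.Agent.VarietyB.ProjGlue

namespace Groth.Agent.Ega2.H282.PnExt

attribute [local instance] MvPolynomial.gradedAlgebra

section base

variable {I : Type} {R : Type u} [CommRing R] {X : Scheme.{u}}

local notation "P" => Proj (MvPolynomial.homogeneousSubmodule I R)

/-- The standard open `D_+(T_i)`. -/
noncomputable abbrev D (I : Type) (R : Type u) [CommRing R] (i : I) :
    (Proj (MvPolynomial.homogeneousSubmodule I R)).Opens :=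
  Proj.basicOpen (MvPolynomial.homogeneousSubmodule I R) (MvPolynomial.X i)

/-- The comorphism of a composite with a morphism to `Spec R`, on constants. -/
lemma appLE_baseHom {Y : Scheme.{u}} (r : X ⟶ Y) (q : Y ⟶ Spec (CommRingCat.of R)) (V : Y.Opens) (W : X.Opens)
    (e : W ≤ r ⁻¹ᵁ V) :
    (r.appLE V W e).hom.comp (CoordData.baseHom q V) = CoordData.baseHom (r ≫ q) W := by
  apply ProjStd.toSpecΓ_map_injective
  rw [ProjStd.toSpecΓ_baseHom]
  have h1 : CommRingCat.ofHom ((r.appLE V W e).hom.comp (CoordData.baseHom q V)) =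
      CommRingCat.ofHom (CoordData.baseHom q V) ≫ r.appLE V W e := rfl
  rw [h1, Spec.map_comp, ← Category.assoc, Scheme.Opens.toSpecΓ_SpecMap_appLE, Category.assoc,
    ProjStd.toSpecΓ_baseHom, Scheme.Hom.resLE_comp_ι_assoc]

/-- Two morphisms to projective space over `R` which agree on ratios agree. -/
theorem hom_ext_of_ratio (r r' : X ⟶ P)
    (hrr' : r ≫ ProjStd.toSpec I R = r' ≫ ProjStd.toSpec I R)
    (U : I → X.Opens) (hU : ⨆ i, U i = ⊤) (h : ∀ i, U i ≤ r ⁻¹ᵁ D I R i) (h' : ∀ i, U i ≤ r' ⁻¹ᵁ D I R i)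
    (H : ∀ i k, r.appLE (D I R i) (U i) (h i) (ProjStd.ratio I R i k) =
      r'.appLE (D I R i) (U i) (h' i) (ProjStd.ratio I R i k)) : r = r' := by
  apply hom_ext_opens U hU
  intro i
  have key : (r.appLE (D I R i) (U i) (h i)) = r'.appLE (D I R i) (U i) (h' i) := by
    ext x
    obtain ⟨p, rfl⟩ := ProjStd.hom_std_surjective I R i x
    have h1 : (r.appLE (D I R i) (U i) (h i)).hom.comp ((ProjStd.stdData I R).hom (ProjStd.toSpec I R) i) =
        (r'.appLE (D I R i) (U i) (h' i)).hom.comp ((ProjStd.stdData I R).hom (ProjStd.toSpec I R) i) := by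
      apply MvPolynomial.ringHom_ext
      · intro c
        have h2 : (ProjStd.stdData I R).hom (ProjStd.toSpec I R) i (MvPolynomial.C c) =
            CoordData.baseHom (ProjStd.toSpec I R) (D I R i) c := by
          simp only [CoordData.hom, MvPolynomial.eval₂Hom_C]
          rfl
        simp only [RingHom.comp_apply]
        have h3 := congrArg (fun φ => φ c) (appLE_baseHom r (ProjStd.toSpec I R) (D I R i) (U i) (h i))
        have h4 := congrArg (fun φ => φ c) (appLE_baseHom r' (ProjStd.toSpec I R) (D I R i) (U i) (h' i))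
        simp only [RingHom.comp_apply] at h3 h4
        rw [hrr'] at h3
        exact (congrArg (r.appLE (D I R i) (U i) (h i)).hom h2).trans
          ((h3.trans h4.symm).trans (congrArg (r'.appLE (D I R i) (U i) (h' i)).hom h2).symm)
      · intro k
        have h2 : (ProjStd.stdData I R).hom (ProjStd.toSpec I R) i (MvPolynomial.X k) = ProjStd.ratio I R i k :=
          CoordData.hom_X _ _ _ _
        exact (congrArg (r.appLE (D I R i) (U i) (h i)).hom h2).trans
          ((H i k).trans (congrArg (r'.appLE (D I R i) (U i) (h' i)).hom h2).symm)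
    exact congrArg (fun φ => φ p) h1
  have hD : IsAffineOpen (D I R i) := ProjStd.isAffineOpen_U I R i
  have h5 : r.resLE (D I R i) (U i) (h i) = r'.resLE (D I R i) (U i) (h' i) := by
    have : IsIso (D I R i).toSpecΓ := hD.isoSpec_hom ▸ inferInstance
    rw [← cancel_mono (D I R i).toSpecΓ, ← Scheme.Opens.toSpecΓ_SpecMap_appLE,
      ← Scheme.Opens.toSpecΓ_SpecMap_appLE, key]
  rw [← Scheme.Hom.resLE_comp_ι r (h i), h5, Scheme.Hom.resLE_comp_ι]

end base

section twist

variable {n : ℕ} {R : Type u} [CommRing R] {X : Scheme.{u}}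

open Groth.Agent.Ega2.VeryAmpleAmple

local notation "𝒢" => CohB1.polyGrading n R
local notation "PP" => Proj (CohB1.polyGrading n R)

/-- The standard open `D_+(T_i)` of `P^n_R`. -/
noncomputable abbrev Dn (n : ℕ) (R : Type u) [CommRing R] (i : Fin (n + 1)) : (Proj (CohB1.polyGrading n R)).Opens :=
  D (Fin (n + 1)) R i

/-- The section `T_i` of `O(1)`. -/
noncomputable def T (i : Fin (n + 1)) : Coh.structureModule PP ⟶ Twist.twist 𝒢 (1 : ℤ) :=
  coordSec (n := n) (R := R) i

/-- The ratio `T_k / T_i`. -/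
noncomputable def rat (i k : Fin (n + 1)) : Γ(Proj (CohB1.polyGrading n R), Dn n R i) :=
  ProjStd.ratio (Fin (n + 1)) R i k

lemma sec_T (i : Fin (n + 1)) (U : (PP).Opens) :
    sec (T (n := n) (R := R) i) U = (show Γ(Twist.twist 𝒢 ((1 : ℕ) : ℤ), U) from
      TwistBasic.fracSec ((1 : ℕ) : ℤ) (Xv i) (⟨1, SetLike.GradedOne.one_mem⟩ : 𝒢 0) (by simp) U
        (fun x _ h => (x : ProjectiveSpectrum 𝒢).isPrime.ne_top ((Ideal.eq_top_iff_one _).mpr h))) :=
  sec_globalSec (𝒜 := 𝒢) (Xv i) U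

/-- The section `T i` has value `coord` on the whole space. -/
lemma sec_T_top (i : Fin (n + 1)) :
    sec (T (n := n) (R := R) i) ⊤ = (ProjUP.coord n R i : Γ(Twist.twistProjSpace n R 1, ⊤)) := by
  rw [sec_T]
  rfl

/-- The frozen pullback of sections is `LocGen.pullSec`. -/
lemma pullSec_eq {Y : Scheme.{u}} (f : X ⟶ Y) (M : Y.Modules) (s : ProjUP.Γm M) :
    ProjUP.pullSec f M s = pullSec f (U := ⊤) (show Γ(M, ⊤) from s) := rfl

lemma sec_pullHom_T (r : X ⟶ PP) (i : Fin (n + 1)) :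
    sec (Weight.pullHom r (T (n := n) (R := R) i)) ⊤ =
      (ProjUP.pullSec r (Twist.twistProjSpace n R 1) (ProjUP.coord n R i) :
        Γ((Scheme.Modules.pullback r).obj (Twist.twist 𝒢 (1 : ℤ)), ⊤)) := by
  refine (Weight.sec_pullHom r (T (n := n) (R := R) i) ⊤).trans ?_
  rw [sec_T_top]
  rfl

/-- `T_k = (T_k / T_i) T_i` on `D_+(T_i)`. -/
lemma sec_T_ratio (i k : Fin (n + 1)) :
    sec (T (n := n) (R := R) k) (Dn n R i) = rat (R := R) i k • sec (T (n := n) (R := R) i) (Dn n R i) := by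
  rw [sec_T, sec_T]
  refine Subtype.ext (funext fun x => Subtype.ext ?_)
  refine Eq.trans ?_ (TwistBasic.smulS_val _ _ _ x).symm
  refine Eq.trans ?_ (congrArg (· * _) (ProjStd.ratio_apply (Fin (n + 1)) R i k x)).symm
  rw [TwistBasic.fracSec_val, TwistBasic.fracSec_val]
  rw [Localization.mk_mul, Localization.mk_eq_mk_iff, Localization.r_iff_exists]
  refine ⟨1, ?_⟩
  simp only [Xv, OneMemClass.coe_one, one_mul]
  change ((MvPolynomial.X i : MvPolynomial (Fin (n + 1)) R) * 1) * MvPolynomial.X k =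
    MvPolynomial.X k * MvPolynomial.X i
  ring

lemma isInvertible_O1 : PicF.IsInvertible (Twist.twist 𝒢 (1 : ℤ)) :=
  TwistInv.isInvertible_twist coveredByOne_poly 1

lemma genLocus_T (i : Fin (n + 1)) : CohB1.genLocus _ (T (n := n) (R := R) i) = Dn n R i :=
  genLocus_coordSec i

lemma genLocus_pullHom_T (r : X ⟶ PP) (i : Fin (n + 1)) :
    CohB1.genLocus _ (Weight.pullHom r (T (n := n) (R := R) i)) = r ⁻¹ᵁ (Dn n R i) := by
  rw [Weight.genLocus_pullHom r isInvertible_O1, genLocus_T]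

lemma sec_pullHom_ratio (r : X ⟶ PP) (i k : Fin (n + 1)) (W : X.Opens) (hW : W ≤ r ⁻¹ᵁ (Dn n R i)) :
    sec (Weight.pullHom r (T (n := n) (R := R) k)) W =
      (r.appLE (Dn n R i) W hW (rat i k) : Γ(X, W)) • sec (Weight.pullHom r (T (n := n) (R := R) i)) W := by
  rw [← res_sec _ hW, ← res_sec _ hW, Weight.sec_pullHom, Weight.sec_pullHom, sec_T_ratio,
    pullSec_smul, res_smul]
  rfl

/-- Uniqueness of the morphism to projective space attached to an invertible module with generating sections. -/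
theorem ext' (r r' : X ⟶ PP)
    (hrr' : r ≫ CohB1.ProjSpace.toSpec n R = r' ≫ CohB1.ProjSpace.toSpec n R)
    (τ : (Scheme.Modules.pullback r).obj (Twist.twist 𝒢 (1 : ℤ)) ≅
      (Scheme.Modules.pullback r').obj (Twist.twist 𝒢 (1 : ℤ)))
    (hτ : ∀ i, τ.hom.app ⊤ (ProjUP.pullSec r (Twist.twistProjSpace n R 1) (ProjUP.coord n R i)) =
      ProjUP.pullSec r' (Twist.twistProjSpace n R 1) (ProjUP.coord n R i)) :
    r = r' := by
  have h1 : ∀ i, Weight.pullHom r (T (n := n) (R := R) i) ≫ τ.hom =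
      Weight.pullHom r' (T (n := n) (R := R) i) := by
    intro i
    apply hom_ext_sec
    rw [sec_comp, sec_pullHom_T, sec_pullHom_T]
    exact hτ i
  have h2 : ∀ i, r ⁻¹ᵁ (Dn n R i) = r' ⁻¹ᵁ (Dn n R i) := by
    intro i
    rw [← genLocus_pullHom_T, ← genLocus_pullHom_T, ← h1 i, Weight.genLocus_comp]
  have hcov : ⨆ i, r ⁻¹ᵁ (Dn n R i) = ⊤ := by
    rw [← Scheme.Hom.preimage_iSup]
    have h3 : ⨆ i, Dn n R i = ⊤ := CoordData.iSup_basicOpen_X (Fin (n + 1)) R
    rw [h3]
    rfl
  refine hom_ext_of_ratio r r' hrr' (fun i => r ⁻¹ᵁ (Dn n R i)) hcov (fun i => le_rfl)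
    (fun i => (h2 i).le) ?_
  intro i k
  have hg : IsGen (sec (Weight.pullHom r' (T (n := n) (R := R) i)) (r ⁻¹ᵁ (Dn n R i))) := by
    rw [← le_genLocus_iff, genLocus_pullHom_T]
    exact (h2 i).le
  apply hg.ext
  have h3 := congrArg (τ.hom.app (r ⁻¹ᵁ (Dn n R i)))
    (sec_pullHom_ratio r i k (r ⁻¹ᵁ (Dn n R i)) le_rfl)
  rw [Scheme.Modules.Hom.app_smul, ← sec_comp, ← sec_comp, h1, h1] at h3
  exact h3.symm.trans (sec_pullHom_ratio r' i k _ (h2 i).le)

end twist

end Groth.Agent.Ega2.H282.PnExt
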